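import Mathlib

/-!
A simple group with a subgroup of index `n` as a transitive permutation group of degree `n` whose point
stabiliser is isomorphic to the subgroup (helper12).
-/

set_option autoImplicit false

namespace Cfsg.Agent.Lib.Helper12.S44

/-- the action on the cosets of a subgroup of index `n`, on the points `0, …, n - 1` -/
theorem exists_perm_realization {G : Type*} [Group G] (hs : IsSimpleGroup G) (H : Subgroup G) (n : ℕ)
    [NeZero n] (hn : 2 ≤ n) (hidx : H.index = n) :
    ∃ ρ : G →* Equiv.Perm (Fin n), Function.Injective ρ ∧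
      MulAction.IsPretransitive ρ.range (Fin n) ∧
      Nonempty (↥H ≃* ↥(MulAction.stabilizer ρ.range (0 : Fin n))) := by
  classical
  have hcard : Nat.card (G ⧸ H) = n := hidx
  have hfin : Finite (G ⧸ H) := Nat.finite_of_card_ne_zero (by rw [hcard]; omega)
  let e0 : (G ⧸ H) ≃ Fin n := Finite.equivFinOfCardEq hcard
  let e : (G ⧸ H) ≃ Fin n := e0.trans (Equiv.swap (e0 ((1 : G) : G ⧸ H)) 0)
  have he1 : e ((1 : G) : G ⧸ H) = 0 := by
    show Equiv.swap (e0 ((1 : G) : G ⧸ H)) 0 (e0 ((1 : G) : G ⧸ H)) = 0
    exact Equiv.swap_apply_left _ _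
  let ρ : G →* Equiv.Perm (Fin n) :=
    e.permCongrHom.toMonoidHom.comp (MulAction.toPermHom G (G ⧸ H))
  have hρ : ∀ (g : G) (i : Fin n), ρ g i = e (g • e.symm i) := fun g i => rfl
  have hρ0 : ∀ g : G, ρ g 0 = e ((g : G) : G ⧸ H) := by
    intro g
    rw [hρ, ← he1, Equiv.symm_apply_apply]
    congr 1
    show ((g * 1 : G) : G ⧸ H) = _
    rw [mul_one]
  have hstab : ∀ g : G, ρ g 0 = 0 ↔ g ∈ H := by
    intro g
    rw [hρ0, ← he1, e.apply_eq_iff_eq, eq_comm, QuotientGroup.eq, inv_one, one_mul]
  have hinj : Function.Injective ρ := by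
    rw [← MonoidHom.ker_eq_bot_iff]
    rcases hs.eq_bot_or_eq_top_of_normal ρ.ker inferInstance with h | h
    · exact h
    · exfalso
      have hall : ∀ g : G, g ∈ H := by
        intro g
        rw [← hstab]
        have : g ∈ ρ.ker := by rw [h]; trivial
        rw [MonoidHom.mem_ker.mp this]
        rfl
      have htop : H = ⊤ := by
        rw [eq_top_iff]
        exact fun g _ => hall g
      rw [htop, Subgroup.index_top] at hidx
      omega
  refine ⟨ρ, hinj, ?_, ?_⟩
  · constructor
    intro i j
    obtain ⟨g, hg⟩ := MulAction.exists_smul_eq G (e.symm i) (e.symm j)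
    refine ⟨⟨ρ g, g, rfl⟩, ?_⟩
    show ρ g i = j
    rw [hρ, hg, Equiv.apply_symm_apply]
  · let f : ↥H →* ↥(MulAction.stabilizer ρ.range (0 : Fin n)) :=
      { toFun := fun h => ⟨⟨ρ h, (h : G), rfl⟩, by
          rw [MulAction.mem_stabilizer_iff]
          show ρ h 0 = 0
          exact (hstab h).mpr h.2⟩
        map_one' := by
          apply Subtype.ext
          apply Subtype.ext
          show ρ ((1 : ↥H) : G) = 1
          rw [Subgroup.coe_one, map_one]
        map_mul' := by
          intro a b
          apply Subtype.ext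
          apply Subtype.ext
          show ρ ((a * b : ↥H) : G) = ρ a * ρ b
          rw [Subgroup.coe_mul, map_mul] }
    have hf : ∀ h : ↥H, ((f h : ↥ρ.range) : Equiv.Perm (Fin n)) = ρ h := fun h => rfl
    have hbij : Function.Bijective f := by
      constructor
      · intro a b hab
        have h1 : ρ a = ρ b := by rw [← hf, ← hf, hab]
        exact Subtype.ext (hinj h1)
      · rintro ⟨⟨p, g, rfl⟩, hp⟩
        rw [MulAction.mem_stabilizer_iff] at hp
        have hp' : ρ g 0 = 0 := hp
        exact ⟨⟨g, (hstab g).mp hp'⟩, rfl⟩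
    exact ⟨MulEquiv.ofBijective f hbij⟩

end Cfsg.Agent.Lib.Helper12.S44
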