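import Cfsg.Agent.Lib.Helper12.S44.ChkDefs

/-! checks of the generators, first part (generated, helper12) -/

set_option autoImplicit false
set_option maxRecDepth 100000

namespace Cfsg.Agent.Lib.Helper12.S44

open Cfsg.Agent.Lib.Helper12.TC Cfsg.Agent.Lib.Helper12.TC.Hex4116

theorem hcompat0 : compatK TT (sw.getD 0 []) (gvs.getD 0 []) = true := by decide +kernel

theorem hcompat1 : compatK TT (sw.getD 1 []) (gvs.getD 1 []) = true := by decide +kernel

theorem hcompat2 : compatK TT (sw.getD 2 []) (gvs.getD 2 []) = true := by decide +kernel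

end Cfsg.Agent.Lib.Helper12.S44
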