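import Cfsg.Agent.Lib.Helper12.S44.ChkDefs

/-! checks of the generators, second part (generated, helper12) -/

set_option autoImplicit false
set_option maxRecDepth 100000

namespace Cfsg.Agent.Lib.Helper12.S44

open Cfsg.Agent.Lib.Helper12.TC Cfsg.Agent.Lib.Helper12.TC.Hex4116

theorem hcompat3 : compatK TT (sw.getD 3 []) (gvs.getD 3 []) = true := by decide +kernel

theorem hcompat4 : compatK TT (sw.getD 4 []) (gvs.getD 4 []) = true := by decide +kernel

theorem hcompat5 : compatK TT (sw.getD 5 []) (gvs.getD 5 []) = true := by decide +kernel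

end Cfsg.Agent.Lib.Helper12.S44
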