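import Cfsg.Agent.Lib.Helper12.S44.ChkDefs

/-! checks of the list of points, of a transvection and of the orbit of a vector (generated, helper12) -/

set_option autoImplicit false
set_option maxRecDepth 100000

namespace Cfsg.Agent.Lib.Helper12.S44

open Cfsg.Agent.Lib.Helper12.TC Cfsg.Agent.Lib.Helper12.TC.Hex4116

theorem hlen : ptL.length = 425 := by decide +kernel

theorem complete_check :
    allT4 (fun a => decide (a = 0) || elemK ptL (norm4 a)) = true := by decide +kernel

theorem transv_check :
    allT4 (fun x => decide (actL (expandG twW) x = trT u0 x)) = true := by decide +kernel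

theorem orbit_check :
    allListK orbL (fun e => decide (actL (expandG e.2) u0 = e.1)) = true := by decide +kernel

theorem orbit_complete :
    allT4 (fun a => decide (a = 0) || elemK (orbL.map Prod.fst) a) = true := by decide +kernel

theorem hu0 : u0 ≠ 0 := by decide

end Cfsg.Agent.Lib.Helper12.S44
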