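import Cfsg.Agent.Lib.Helper12.S44.Data
import Cfsg.Agent.Lib.Helper12.TC.Hex4116.Tab
import Cfsg.Agent.Lib.Helper12.TC.Fn.LowerParts

/-!
Checks by evaluation, definitions: the generators of a subgroup `Sp4(4)` of the Held group act on an orbit
of 425 points as products of symplectic transvections act on the points of the symplectic space (helper12).
-/

set_option autoImplicit false
set_option maxRecDepth 100000

namespace Cfsg.Agent.Lib.Helper12.S44

open Cfsg.Agent.Lib.Helper12.TC Cfsg.Agent.Lib.Helper12.TC.Hex4116

/-- the check of one point: the word `w` maps the point `2721 + i` to a point `2721 + j` of the orbit, and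
the product of the transvections of `vs` maps the point of the `i`-th flag to the point of the `j`-th -/
def compatOne (TT : ℕ → ℕ → ℕ) (w : List ℕ) (vs : List T4) (i : ℕ) : Bool :=
  Nat.ble 2721 (Fn.applyW TT w (2721 + i)) && (Nat.blt (Fn.applyW TT w (2721 + i)) 3146 &&
    (!(decide (actL vs (ptL.getD i 0) = 0)) &&
      decide (norm4 (actL vs (ptL.getD i 0)) = ptL.getD (Fn.applyW TT w (2721 + i) - 2721) 0)))

/-- the check of all points -/
def compatK (TT : ℕ → ℕ → ℕ) (w : List ℕ) (vs : List T4) : Bool :=
  allBelowK 425 (compatOne TT w vs)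

/-- membership in a list -/
def elemK (l : List T4) (a : T4) : Bool :=
  @List.rec T4 (fun _ => Bool) false (fun b _ ih => cond (decide (a = b)) true ih) l

theorem elemK_iff (l : List T4) (a : T4) : elemK l a = true ↔ a ∈ l := by
  induction l with
  | nil => exact ⟨fun h => Bool.noConfusion h, fun h => absurd h List.not_mem_nil⟩
  | cons b l ih =>
    have e : elemK (b :: l) a = cond (decide (a = b)) true (elemK l a) := rfl
    rw [e, List.mem_cons]
    by_cases hab : a = b
    · simp [hab]
    · simp [hab, ih]

/-- all elements of the field -/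
def allK4 : List K := [k0, k1, k2, k3]

theorem mem_allK4 (x : K) : x ∈ allK4 := by cases x <;> decide

/-- a test on all tuples -/
def allT4 (p : T4 → Bool) : Bool :=
  allK4.all fun a0 => allK4.all fun a1 => allK4.all fun a2 => allK4.all fun a3 => p (a0, a1, a2, a3)

theorem allT4_spec (p : T4 → Bool) (h : allT4 p = true) (a : T4) : p a = true := by
  obtain ⟨a0, a1, a2, a3⟩ := a
  simp only [allT4, List.all_eq_true] at h
  exact h a0 (mem_allK4 a0) a1 (mem_allK4 a1) a2 (mem_allK4 a2) a3 (mem_allK4 a3)

/-- the vectors of the generators of the subgroup in a word -/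
def expandG (W : List ℕ) : List T4 := W.flatMap (fun k => gvs.getD k [])

end Cfsg.Agent.Lib.Helper12.S44
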