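import Cfsg.Agent.Lib.Helper12.S44.SpT
import Cfsg.Agent.Lib.Helper12.S44.ChkA
import Cfsg.Agent.Lib.Helper12.S44.ChkB
import Cfsg.Agent.Lib.Helper12.S44.ChkC
import Cfsg.Agent.Lib.Helper12.TC.Hex4116.Main
import Cfsg.Agent.Lib.Helper12.U62.Gen

/-!
A subgroup `Sp4(4)` of the Held group: the relation between its elements and symplectic matrices given by
the action on an orbit of 425 points and on the points of the symplectic space (helper12).
-/

set_option autoImplicit false

namespace Cfsg.Agent.Lib.Helper12.S44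

open Matrix Cfsg.Spor Cfsg.Agent.Lib.Helper12.TC Cfsg.Agent.Lib.Helper12.TC.Hex4116
  Cfsg.Agent.Lib.Helper12.TC.HePres Cfsg.Agent.Lib.Helper12.U62

/-- the relators -/
abbrev R : Set (FreeGroup He.Gen) := coxRelators He.edges ∪ {r | r ∈ He.extra}

/-- the generators -/
noncomputable def v (i : ℕ) : PresentedGroup R := PresentedGroup.mk R (FreeGroup.of (gen i))

/-- the subgroup -/
abbrev Ns : Subgroup (PresentedGroup R) := (Subgroup.closure S).map (PresentedGroup.mk R)

theorem hH : Ns = Subgroup.closure {γ | ∃ w ∈ sw, γ = wprod v w} := by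
  show (Subgroup.closure S).map (PresentedGroup.mk R) = _
  rw [MonoidHom.map_closure, hS]
  rfl

/-- the permutation representation -/
noncomputable def rho : PresentedGroup R →* Equiv.Perm (Fin cN) := mainRho.choose

theorem rho_v : ∀ x < 7, ∀ i : Fin cN, ((rho (v x) i : Fin cN) : ℕ) = TT x i := mainRho.choose_spec.1

theorem rho_index : Ns.index = cN := mainRho.choose_spec.2.1

theorem rho_equiv : ∃ Φ : (PresentedGroup R ⧸ Ns) ≃ Fin cN,
    ∀ γ : PresentedGroup R, Φ (γ : PresentedGroup R ⧸ Ns) = rho γ ⟨0, hN0⟩ := mainRho.choose_spec.2.2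

/-- the points of the orbit -/
def pt (i : ℕ) : Fin cN := Fn.ptOf hN0 (2721 + i)

theorem pt_val {i : ℕ} (hi : i < 425) : (pt i).val = 2721 + i :=
  Fn.ptOf_val hN0 (by show 2721 + i < 4116; omega)

theorem pt_inj {i j : ℕ} (hi : i < 425) (hj : j < 425) (h : pt i = pt j) : i = j := by
  have := congrArg Fin.val h
  rw [pt_val hi, pt_val hj] at this
  omega

/-- an element of the group and a symplectic matrix act in the same way -/
def Compat (g : PresentedGroup R) (M : Sp4) : Prop :=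
  ∀ i < 425, ∃ j < 425, rho g (pt i) = pt j ∧
    ∃ c : K, c ≠ 0 ∧ mat M *ᵥ vec4 (ptL.getD i 0) = c • vec4 (ptL.getD j 0)

theorem compat_one : Compat 1 1 := by
  intro i hi
  refine ⟨i, hi, ?_, 1, one_ne_zero, ?_⟩
  · rw [map_one]; rfl
  · rw [mat_one, Matrix.one_mulVec, one_smul]

theorem compat_mul (g g' : PresentedGroup R) (M M' : Sp4) (h : Compat g M) (h' : Compat g' M') :
    Compat (g * g') (M * M') := by
  intro i hi
  obtain ⟨j', hj', e1, c', hc', e2⟩ := h' i hi
  obtain ⟨j, hj, e3, c, hc, e4⟩ := h j' hj'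
  refine ⟨j, hj, ?_, c' * c, mul_ne_zero hc' hc, ?_⟩
  · rw [map_mul, Equiv.Perm.mul_apply, e1, e3]
  · rw [mat_mul, ← Matrix.mulVec_mulVec, e2, Matrix.mulVec_smul, e4, smul_smul]

theorem compat_inv (g : PresentedGroup R) (M : Sp4) (h : Compat g M) : Compat g⁻¹ M⁻¹ := by
  classical
  choose f hf using fun (i : Fin 425) => h i.val i.isLt
  let F : Fin 425 → Fin 425 := fun i => ⟨f i, (hf i).1⟩
  have hinj : Function.Injective F := by
    intro i i' hii
    have h1 : f i = f i' := congrArg Fin.val hii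
    have h2 : rho g (pt i.val) = rho g (pt i'.val) := by
      rw [(hf i).2.1, (hf i').2.1, h1]
    exact Fin.ext (pt_inj i.isLt i'.isLt ((rho g).injective h2))
  have hsurj : Function.Surjective F := Finite.injective_iff_surjective.mp hinj
  intro i hi
  obtain ⟨i', hi'⟩ := hsurj ⟨i, hi⟩
  have h1 : f i' = i := congrArg Fin.val hi'
  obtain ⟨_, e1, c, hc, e2⟩ := hf i'
  rw [h1] at e1 e2
  refine ⟨i'.val, i'.isLt, ?_, c⁻¹, inv_ne_zero hc, ?_⟩
  · rw [map_inv, Equiv.Perm.inv_eq_iff_eq, e1]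
  · have h3 : vec4 (ptL.getD i 0) = c⁻¹ • (mat M *ᵥ vec4 (ptL.getD i'.val 0)) := by
      rw [e2, smul_smul, inv_mul_cancel₀ hc, one_smul]
    rw [h3, Matrix.mulVec_smul, Matrix.mulVec_mulVec, mat_inv_mul, Matrix.one_mulVec]

/-- the list of points is complete -/
theorem exists_index (a : T4) (ha : a ≠ 0) : ∃ j < 425, ptL.getD j 0 = norm4 a := by
  have h1 := allT4_spec _ complete_check a
  simp only [Bool.or_eq_true, decide_eq_true_eq] at h1
  rcases h1 with h1 | h1
  · exact absurd h1 ha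
  · obtain ⟨j, hj, e⟩ := List.mem_iff_getElem.mp ((elemK_iff _ _).mp h1)
    refine ⟨j, by rw [← hlen]; exact hj, ?_⟩
    rw [List.getD_eq_getElem _ _ hj, e]

/-- the action of a matrix on tuples -/
def mT (M : Sp4) (a : T4) : T4 := tup4 (mat M *ᵥ vec4 a)

theorem vec4_mT (M : Sp4) (a : T4) : vec4 (mT M a) = mat M *ᵥ vec4 a := vec4_tup4 _

theorem mT_add (M : Sp4) (a b : T4) : mT M (a + b) = mT M a + mT M b := by
  apply vec4_injective
  rw [vec4_mT, vec4_add, vec4_add, vec4_mT, vec4_mT, Matrix.mulVec_add]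

theorem mT_smul (M : Sp4) (s : K) (a : T4) : mT M (s • a) = s • mT M a := by
  apply vec4_injective
  rw [vec4_mT, vec4_smul, vec4_smul, vec4_mT, Matrix.mulVec_smul]

theorem sq_eq_one (c : K) (h : c * c = 1) : c = 1 := by revert c; decide

/-- a matrix fixing all points is the identity -/
theorem eq_one_of_fix (M : Sp4) (h : ∀ a : T4, a ≠ 0 → ∃ c : K, mT M a = c • a) : M = 1 := by
  obtain ⟨c0, h0⟩ := h (1, 0, 0, 0) (by decide)
  obtain ⟨c1, h1⟩ := h (0, 1, 0, 0) (by decide)
  obtain ⟨c2, h2⟩ := h (0, 0, 1, 0) (by decide)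
  obtain ⟨c3, h3⟩ := h (0, 0, 0, 1) (by decide)
  obtain ⟨d1, g1⟩ := h (1, 1, 0, 0) (by decide)
  obtain ⟨d2, g2⟩ := h (1, 0, 1, 0) (by decide)
  obtain ⟨d3, g3⟩ := h (1, 0, 0, 1) (by decide)
  have e1 : ((1, 1, 0, 0) : T4) = (1, 0, 0, 0) + (0, 1, 0, 0) := by decide
  have e2 : ((1, 0, 1, 0) : T4) = (1, 0, 0, 0) + (0, 0, 1, 0) := by decide
  have e3 : ((1, 0, 0, 1) : T4) = (1, 0, 0, 0) + (0, 0, 0, 1) := by decide
  rw [e1, mT_add, h0, h1] at g1
  rw [e2, mT_add, h0, h2] at g2
  rw [e3, mT_add, h0, h3] at g3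
  have k1 : c1 = c0 := by
    have := g1
    simp only [Prod.smul_mk, Prod.mk_add_mk, smul_eq_mul, mul_one, mul_zero, add_zero, zero_add,
      Prod.mk.injEq] at this
    rw [this.2.1, this.1]
  have k2 : c2 = c0 := by
    have := g2
    simp only [Prod.smul_mk, Prod.mk_add_mk, smul_eq_mul, mul_one, mul_zero, add_zero, zero_add,
      Prod.mk.injEq] at this
    rw [this.2.2.1, this.1]
  have k3 : c3 = c0 := by
    have := g3
    simp only [Prod.smul_mk, Prod.mk_add_mk, smul_eq_mul, mul_one, mul_zero, add_zero, zero_add,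
      Prod.mk.injEq] at this
    rw [this.2.2.2, this.1]
  rw [k1] at h1
  rw [k2] at h2
  rw [k3] at h3
  have hall : ∀ a : T4, mT M a = c0 • a := by
    rintro ⟨a0, a1, a2, a3⟩
    have e : ((a0, a1, a2, a3) : T4) = a0 • (1, 0, 0, 0) + (a1 • (0, 1, 0, 0) +
        (a2 • (0, 0, 1, 0) + a3 • (0, 0, 0, 1))) := by
      simp only [Prod.smul_mk, Prod.mk_add_mk, smul_eq_mul, mul_one, mul_zero, add_zero, zero_add]
    rw [e, mT_add, mT_add, mT_add, mT_smul, mT_smul, mT_smul, mT_smul, h0, h1, h2, h3]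
    simp only [smul_add, smul_smul, mul_comm]
  have hform := mat_pres M (vec4 (1, 0, 0, 0)) (vec4 (0, 0, 1, 0))
  rw [← vec4_mT, ← vec4_mT, hall, hall, form_vec4, form_vec4] at hform
  have hc : c0 * c0 = 1 := by
    simp only [bT, Prod.smul_mk, smul_eq_mul, mul_one, mul_zero, add_zero, zero_add] at hform
    exact hform
  have hc1 := sq_eq_one c0 hc
  apply mat_ext
  intro x
  rw [← vec4_mT, hall, hc1, one_smul, mat_one, Matrix.one_mulVec]

/-- an element acting as the identity on the orbit corresponds to the identity matrix only -/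
theorem compat_uniq (M : Sp4) (h : Compat 1 M) : M ∈ (⊥ : Subgroup Sp4) := by
  rw [Subgroup.mem_bot]
  apply eq_one_of_fix
  intro a ha
  obtain ⟨j, hj, e⟩ := exists_index a ha
  obtain ⟨j', hj', e1, c, hc, e2⟩ := h j hj
  rw [map_one] at e1
  have : j = j' := pt_inj hj hj' e1
  subst this
  refine ⟨c, ?_⟩
  apply vec4_injective
  rw [vec4_mT, vec4_smul]
  have h1 := eq_lead_smul_norm a ha
  rw [← e] at h1
  rw [h1, vec4_smul, Matrix.mulVec_smul, e2, smul_comm]

/-- from the check by evaluation to the relation -/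
theorem compat_of_check (w : List ℕ) (vs : List T4) (hw : ∀ s ∈ w, s < 7)
    (h : compatK TT w vs = true) : Compat (wprod v w) (actS vs) := by
  intro i hi
  have h1 := (allBelowK_iff 425 _).mp h i hi
  unfold compatOne at h1
  simp only [Bool.and_eq_true, Bool.not_eq_true', decide_eq_false_iff_not, decide_eq_true_eq] at h1
  obtain ⟨h2, h3, h4, h5⟩ := h1
  have h2' : 2721 ≤ Fn.applyW TT w (2721 + i) := Nat.le_of_ble_eq_true h2
  have h3' : Fn.applyW TT w (2721 + i) < 3146 := Nat.le_of_ble_eq_true h3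
  refine ⟨Fn.applyW TT w (2721 + i) - 2721, by omega, ?_,
    lead4 (actL vs (ptL.getD i 0)), lead4_ne_zero _ h4, ?_⟩
  · apply Fin.ext
    rw [Fn.rho_word v rho rho_v w hw, pt_val hi, pt_val (by omega)]
    omega
  · rw [actS_mulVec, ← h5, ← vec4_smul, ← eq_lead_smul_norm _ h4]

theorem hsw_lt : ∀ k, ∀ s ∈ sw.getD k [], s < 7 := by
  intro k
  by_cases hk : k < sw.length
  · have h : ∀ k < sw.length, ∀ s ∈ sw.getD k [], s < 7 := by decide
    exact h k hk
  · rw [List.getD_eq_default _ _ (by omega)]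
    intro s hs
    exact absurd hs List.not_mem_nil

/-- the generators of the subgroup correspond to the products of the transvections of the table -/
theorem compat_gen (k : ℕ) (hk : k < 6) : Compat (wprod v (sw.getD k [])) (actS (gvs.getD k [])) := by
  have h : ∀ k < 6, compatK TT (sw.getD k []) (gvs.getD k []) = true := by
    intro k hk
    interval_cases k
    · exact hcompat0
    · exact hcompat1
    · exact hcompat2
    · exact hcompat3
    · exact hcompat4
    · exact hcompat5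
  exact compat_of_check _ _ (hsw_lt k) (h k hk)

/-- every element of the subgroup corresponds to a matrix -/
theorem exists_compat : ∀ h ∈ Ns, ∃ M : Sp4, Compat h M := by
  intro h hh
  rw [hH] at hh
  refine Subgroup.closure_induction (p := fun h _ => ∃ M : Sp4, Compat h M) ?_ ?_ ?_ ?_ hh
  · rintro _ ⟨w, hw, rfl⟩
    obtain ⟨k, hk, rfl⟩ := List.mem_iff_getElem.mp hw
    have hk6 : k < 6 := hk
    have := compat_gen k hk6
    rw [List.getD_eq_getElem _ _ hk] at this
    exact ⟨_, this⟩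
  · exact ⟨1, compat_one⟩
  · rintro x y _ _ ⟨M, hM⟩ ⟨M', hM'⟩
    exact ⟨M * M', compat_mul _ _ _ _ hM hM'⟩
  · rintro x _ ⟨M, hM⟩
    exact ⟨M⁻¹, compat_inv _ _ hM⟩

end Cfsg.Agent.Lib.Helper12.S44
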