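import Cfsg.Agent.Lib.Helper12.S44.Tup

/-!
The points of the symplectic space of dimension four over the field with four elements, in the order of
the points of an orbit of a subgroup `Sp4(4)` of the Held group (flags of the generalised quadrangle), and
the transvections of the generators of that subgroup: data (generated, helper12).
-/

set_option autoImplicit false

namespace Cfsg.Agent.Lib.Helper12.S44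

open Cfsg.Agent.Lib.Lead.F4

/-- an element of the field -/ abbrev k0 : K := F4c.z
/-- an element of the field -/ abbrev k1 : K := F4c.o
/-- an element of the field -/ abbrev k2 : K := F4c.w
/-- an element of the field -/ abbrev k3 : K := F4c.v

/-- the points of the flags -/
def ptL : List T4 :=
  [(k1, k1, k1, k2), (k0, k1, k1, k3), (k0, k1, k2, k0), (k1, k0, k0, k1), (k1, k2, k2, k0), (k1, k2, k2, k0),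
   (k1, k1, k0, k2), (k1, k2, k0, k2), (k1, k2, k3, k0), (k0, k1, k2, k0), (k1, k3, k3, k3), (k1, k3, k3, k3),
   (k1, k3, k3, k3), (k1, k3, k3, k2), (k0, k1, k1, k3), (k1, k2, k1, k2), (k1, k2, k1, k2), (k0, k0, k1, k3),
   (k0, k1, k0, k0), (k1, k2, k0, k2), (k1, k2, k2, k3), (k1, k1, k2, k0), (k1, k2, k3, k0), (k1, k2, k2, k0),
   (k1, k0, k0, k1), (k1, k0, k0, k1), (k1, k0, k2, k2), (k1, k0, k0, k1), (k1, k0, k2, k2), (k1, k0, k2, k2),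
   (k1, k2, k1, k1), (k1, k2, k1, k1), (k0, k1, k3, k0), (k1, k1, k1, k2), (k1, k1, k0, k2), (k0, k0, k1, k0),
   (k0, k0, k1, k3), (k1, k2, k3, k0), (k0, k0, k1, k0), (k0, k1, k3, k3), (k0, k1, k0, k0), (k0, k1, k3, k3),
   (k1, k1, k0, k2), (k1, k1, k1, k2), (k1, k0, k1, k3), (k1, k1, k2, k0), (k1, k1, k3, k0), (k1, k2, k2, k3),
   (k1, k2, k1, k2), (k0, k1, k1, k3), (k0, k1, k1, k3), (k0, k1, k1, k3), (k1, k2, k1, k2), (k1, k3, k3, k3),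
   (k1, k3, k3, k2), (k1, k3, k3, k2), (k1, k2, k2, k3), (k0, k1, k1, k0), (k1, k3, k3, k2), (k1, k2, k2, k3),
   (k0, k1, k1, k0), (k1, k2, k1, k1), (k1, k2, k2, k3), (k0, k1, k1, k0), (k0, k0, k1, k3), (k1, k3, k3, k1),
   (k1, k3, k3, k1), (k1, k3, k3, k0), (k1, k3, k3, k1), (k0, k1, k2, k0), (k1, k2, k0, k2), (k0, k1, k0, k0),
   (k1, k1, k3, k0), (k1, k1, k2, k0), (k1, k1, k3, k0), (k0, k0, k1, k1), (k0, k1, k3, k0), (k0, k1, k3, k3),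
   (k0, k0, k1, k1), (k0, k0, k1, k1), (k1, k3, k3, k2), (k0, k0, k1, k3), (k1, k1, k1, k3), (k1, k1, k0, k3),
   (k1, k0, k1, k3), (k0, k0, k1, k0), (k1, k0, k2, k2), (k1, k0, k0, k1), (k1, k2, k2, k0), (k1, k1, k1, k2),
   (k1, k2, k2, k0), (k1, k1, k0, k2), (k1, k1, k1, k2), (k1, k1, k0, k2), (k1, k2, k3, k0), (k0, k0, k1, k0),
   (k1, k0, k2, k2), (k1, k2, k1, k1), (k0, k1, k3, k0), (k0, k1, k3, k0), (k1, k0, k1, k3), (k1, k0, k3, k0),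
   (k1, k0, k1, k3), (k0, k1, k3, k0), (k1, k2, k3, k0), (k1, k0, k3, k0), (k1, k0, k1, k3), (k1, k0, k3, k0),
   (k0, k1, k3, k3), (k1, k1, k3, k1), (k1, k1, k2, k1), (k1, k1, k3, k1), (k1, k1, k2, k1), (k1, k3, k1, k3),
   (k1, k3, k2, k1), (k0, k1, k0, k3), (k1, k1, k3, k1), (k1, k1, k2, k1), (k1, k1, k0, k3), (k1, k1, k0, k3),
   (k1, k3, k3, k0), (k1, k3, k3, k1), (k1, k1, k2, k1), (k1, k2, k1, k1), (k1, k2, k0, k0), (k0, k0, k1, k2),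
   (k0, k1, k2, k3), (k1, k1, k1, k3), (k0, k1, k1, k0), (k1, k3, k3, k3), (k0, k1, k2, k0), (k1, k2, k1, k2),
   (k1, k2, k0, k2), (k0, k1, k0, k0), (k0, k1, k2, k0), (k1, k2, k0, k2), (k0, k0, k1, k3), (k0, k1, k0, k0),
   (k1, k1, k2, k0), (k1, k1, k3, k0), (k1, k1, k2, k0), (k0, k1, k1, k0), (k1, k3, k3, k1), (k1, k3, k3, k0),
   (k1, k3, k3, k0), (k1, k1, k1, k3), (k1, k1, k0, k3), (k1, k0, k3, k3), (k1, k0, k0, k3), (k0, k1, k2, k3),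
   (k1, k1, k1, k3), (k1, k1, k0, k3), (k1, k3, k3, k0), (k1, k0, k3, k3), (k1, k0, k0, k3), (k0, k1, k2, k3),
   (k1, k1, k1, k3), (k1, k0, k3, k3), (k1, k0, k0, k3), (k0, k0, k1, k1), (k0, k0, k1, k1), (k0, k1, k3, k2),
   (k0, k0, k0, k1), (k0, k1, k0, k3), (k1, k1, k2, k1), (k0, k1, k3, k2), (k0, k0, k0, k1), (k0, k1, k0, k3),
   (k1, k2, k1, k3), (k0, k1, k2, k1), (k1, k2, k2, k1), (k0, k0, k0, k1), (k1, k3, k2, k0), (k1, k2, k3, k3),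
   (k0, k1, k3, k2), (k0, k1, k2, k3), (k1, k3, k1, k3), (k1, k3, k2, k1), (k1, k1, k3, k1), (k0, k1, k0, k3),
   (k1, k0, k1, k0), (k1, k3, k0, k1), (k1, k0, k2, k0), (k1, k1, k1, k1), (k1, k2, k0, k1), (k1, k2, k0, k0),
   (k0, k0, k1, k2), (k1, k0, k3, k0), (k0, k0, k1, k0), (k0, k1, k3, k3), (k1, k1, k3, k0), (k1, k0, k3, k0),
   (k1, k1, k3, k1), (k1, k3, k1, k3), (k1, k3, k2, k1), (k0, k1, k0, k3), (k1, k3, k1, k3), (k1, k3, k2, k1),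
   (k1, k2, k0, k0), (k0, k0, k1, k2), (k0, k1, k2, k3), (k1, k1, k0, k1), (k1, k2, k1, k0), (k1, k1, k1, k1),
   (k0, k0, k1, k2), (k1, k0, k2, k0), (k1, k2, k0, k1), (k1, k2, k0, k0), (k1, k3, k1, k3), (k1, k3, k2, k1),
   (k1, k1, k0, k1), (k1, k2, k1, k0), (k1, k1, k1, k1), (k0, k0, k1, k2), (k1, k0, k2, k0), (k1, k2, k0, k1),
   (k1, k2, k0, k0), (k1, k1, k0, k1), (k1, k2, k1, k0), (k1, k3, k1, k2), (k1, k0, k3, k1), (k1, k3, k2, k0),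
   (k1, k2, k2, k1), (k1, k2, k3, k3), (k1, k3, k1, k2), (k1, k0, k3, k1), (k1, k3, k2, k0), (k1, k2, k2, k1),
   (k1, k2, k3, k3), (k1, k0, k1, k0), (k0, k1, k0, k2), (k1, k3, k1, k1), (k1, k3, k1, k2), (k1, k0, k1, k2),
   (k1, k0, k3, k1), (k0, k1, k0, k1), (k1, k2, k0, k3), (k1, k1, k0, k0), (k1, k3, k2, k3), (k1, k1, k1, k1),
   (k1, k0, k2, k0), (k1, k2, k0, k1), (k1, k2, k1, k3), (k0, k1, k2, k1), (k0, k1, k3, k2), (k1, k2, k2, k1),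
   (k0, k0, k0, k1), (k1, k3, k2, k0), (k1, k2, k3, k3), (k1, k3, k1, k1), (k0, k1, k0, k2), (k1, k2, k3, k2),
   (k1, k1, k3, k3), (k1, k1, k2, k3), (k1, k0, k1, k1), (k0, k1, k2, k2), (k1, k3, k0, k1), (k1, k0, k3, k3),
   (k1, k0, k0, k3), (k1, k0, k3, k3), (k1, k0, k0, k3), (k0, k1, k3, k2), (k0, k0, k0, k1), (k1, k2, k1, k3),
   (k0, k1, k2, k1), (k1, k2, k2, k1), (k1, k3, k2, k0), (k1, k2, k3, k3), (k1, k2, k1, k3), (k0, k1, k2, k1),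
   (k1, k0, k1, k0), (k1, k3, k0, k1), (k1, k0, k2, k0), (k1, k1, k1, k1), (k1, k2, k0, k1), (k0, k1, k0, k1),
   (k1, k1, k2, k2), (k1, k0, k2, k1), (k1, k0, k1, k0), (k1, k3, k0, k0), (k1, k3, k0, k1), (k1, k2, k3, k2),
   (k1, k1, k2, k3), (k0, k1, k2, k2), (k1, k0, k1, k1), (k1, k2, k1, k3), (k0, k1, k2, k1), (k0, k1, k0, k1),
   (k1, k1, k2, k2), (k1, k0, k2, k1), (k1, k0, k1, k0), (k1, k3, k0, k0), (k1, k3, k0, k1), (k1, k2, k3, k2),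
   (k1, k1, k2, k3), (k0, k1, k2, k2), (k1, k0, k1, k1), (k0, k1, k0, k1), (k1, k1, k2, k2), (k1, k0, k2, k1),
   (k1, k3, k0, k0), (k1, k2, k3, k2), (k1, k3, k0, k3), (k1, k1, k3, k2), (k0, k1, k0, k1), (k1, k2, k3, k1),
   (k1, k2, k0, k3), (k1, k3, k2, k3), (k1, k1, k0, k0), (k1, k3, k0, k3), (k1, k1, k3, k2), (k1, k2, k3, k1),
   (k1, k2, k0, k3), (k1, k3, k2, k3), (k1, k1, k0, k0), (k1, k3, k1, k1), (k0, k1, k0, k2), (k1, k2, k3, k2),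
   (k1, k0, k0, k2), (k1, k3, k0, k3), (k1, k1, k3, k2), (k1, k3, k0, k2), (k0, k1, k1, k2), (k1, k2, k3, k1),
   (k1, k1, k0, k1), (k0, k1, k1, k2), (k1, k1, k1, k0), (k1, k1, k1, k0), (k1, k3, k2, k2), (k1, k1, k2, k3),
   (k0, k1, k2, k2), (k1, k0, k1, k1), (k0, k1, k0, k2), (k1, k3, k1, k1), (k1, k3, k1, k2), (k1, k0, k1, k2),
   (k1, k0, k3, k1), (k1, k2, k0, k3), (k1, k1, k0, k0), (k1, k3, k2, k3), (k1, k0, k0, k2), (k1, k0, k0, k0),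
   (k1, k2, k2, k2), (k1, k3, k1, k0), (k1, k2, k2, k2), (k0, k1, k1, k1), (k1, k0, k3, k2), (k0, k1, k1, k1),
   (k1, k1, k3, k3), (k1, k2, k1, k0), (k1, k1, k0, k1), (k1, k2, k1, k0), (k1, k3, k1, k2), (k1, k0, k3, k1),
   (k1, k0, k1, k2), (k1, k2, k0, k3), (k1, k1, k0, k0), (k1, k3, k2, k3), (k1, k0, k1, k2), (k1, k1, k3, k3),
   (k1, k1, k2, k3), (k1, k0, k1, k1), (k0, k1, k2, k2), (k1, k0, k0, k2), (k0, k1, k1, k2), (k1, k0, k2, k3),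
   (k1, k0, k0, k0), (k0, k1, k3, k1), (k1, k0, k2, k3), (k0, k1, k3, k1), (k1, k1, k3, k3), (k1, k2, k2, k2),
   (k0, k1, k1, k1), (k1, k0, k3, k2), (k0, k1, k0, k2), (k1, k3, k1, k1), (k1, k0, k1, k2), (k1, k0, k0, k2),
   (k1, k0, k2, k3), (k1, k0, k0, k0), (k0, k1, k3, k1), (k1, k0, k2, k3), (k1, k1, k3, k3), (k1, k0, k3, k2),
   (k1, k0, k0, k2), (k0, k1, k1, k2), (k1, k0, k2, k3), (k1, k0, k0, k0), (k1, k2, k2, k2), (k1, k3, k1, k0),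
   (k0, k1, k1, k2), (k0, k1, k3, k1), (k1, k3, k2, k2), (k1, k1, k1, k0), (k0, k1, k3, k1), (k1, k3, k2, k2),
   (k1, k1, k3, k2), (k1, k1, k2, k2), (k1, k0, k2, k1), (k1, k0, k0, k0), (k1, k2, k2, k2), (k1, k3, k0, k2),
   (k1, k3, k1, k0), (k0, k1, k1, k1), (k1, k0, k3, k2), (k1, k0, k2, k1), (k1, k1, k3, k2), (k1, k1, k2, k2),
   (k1, k3, k0, k3), (k1, k3, k0, k2), (k1, k2, k3, k1), (k1, k1, k1, k0), (k1, k3, k2, k2), (k1, k3, k0, k3),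
   (k1, k3, k0, k0), (k1, k3, k0, k0), (k1, k2, k3, k1), (k1, k1, k1, k0), (k1, k3, k2, k2), (k1, k3, k0, k2),
   (k0, k1, k1, k1), (k1, k0, k3, k2), (k1, k3, k1, k0), (k1, k3, k0, k2), (k1, k3, k1, k0)]

/-- the vectors of the transvections whose product is the image of a generator of the subgroup -/
def gvs : List (List T4) :=
  [[(k0, k1, k1, k3), (k3, k0, k0, k3), (k3, k1, k1, k0)],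
   [(k0, k1, k2, k0), (k2, k0, k1, k3), (k2, k1, k3, k3)],
   [(k0, k3, k0, k0), (k1, k1, k2, k0)],
   [(k0, k0, k2, k2), (k1, k1, k3, k0)],
   [(k0, k3, k1, k0), (k1, k2, k0, k2)],
   [(k0, k0, k0, k3), (k0, k0, k3, k1), (k0, k3, k2, k2), (k1, k1, k3, k0)]]

/-- a word in the generators of the subgroup whose image is a transvection -/
def twW : List ℕ := [4, 3, 0]

/-- the vector of that transvection -/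
def u0 : T4 := (k1, k1, k1, k2)

/-- for every vector other than zero a word in the generators of the subgroup whose image maps `u0` to it -/
def orbL : List (T4 × List ℕ) :=
  [((k0, k0, k0, k1), [3, 2, 4, 5, 2, 3, 2, 1, 2]), ((k0, k0, k0, k2), [3, 2, 4, 5, 2, 1, 2]), ((k0, k0, k0, k3), [3, 2, 4, 5, 3, 1, 2]),
   ((k0, k0, k1, k0), [4, 3, 5, 2]), ((k0, k0, k1, k1), [2, 4, 5, 1, 2, 1, 2]), ((k0, k0, k1, k2), [3, 2, 4, 5, 2, 3, 1, 2]),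
   ((k0, k0, k1, k3), [5, 1, 2, 3, 2, 1, 2]), ((k0, k0, k2, k0), [4, 1, 2, 5, 3, 2, 1, 2]), ((k0, k0, k2, k1), [5, 1, 2, 1, 2]),
   ((k0, k0, k2, k2), [5, 4, 2, 5]), ((k0, k0, k2, k3), [3, 2, 4, 5, 3, 2, 1, 2]), ((k0, k0, k3, k0), [4, 1, 2, 5, 1, 2]),
   ((k0, k0, k3, k1), [3, 2, 4, 5, 1, 2]), ((k0, k0, k3, k2), [5, 3, 2]), ((k0, k0, k3, k3), [5, 4, 1, 2, 5, 3, 1, 2]),
   ((k0, k1, k0, k0), [4, 1, 2, 5, 3, 1, 2]), ((k0, k1, k0, k1), [5, 2, 1, 2, 4, 1, 2, 5]), ((k0, k1, k0, k2), [4, 2, 1, 2, 4, 5, 2, 3, 1, 2]),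
   ((k0, k1, k0, k3), [2, 5, 4, 1, 2, 5]), ((k0, k1, k1, k0), [4, 2, 5, 1, 2]), ((k0, k1, k1, k1), [2, 4, 5, 1, 2, 4, 5, 1, 2]),
   ((k0, k1, k1, k2), [5, 2, 3, 1, 2, 4, 5, 2, 1, 2]), ((k0, k1, k1, k3), [1, 2, 3, 1, 2]), ((k0, k1, k2, k0), [2, 5, 1, 2, 3, 1, 2]),
   ((k0, k1, k2, k1), [3, 1, 2, 4, 3, 5, 2, 1, 2]), ((k0, k1, k2, k2), [4, 5, 1, 2, 4, 5, 2, 3, 1, 2]), ((k0, k1, k2, k3), [2, 5, 4, 2, 5, 1, 2]),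
   ((k0, k1, k3, k0), [4, 1, 2, 5]), ((k0, k1, k3, k1), [0, 5, 4, 2, 1, 2, 4, 5, 3, 1, 2]), ((k0, k1, k3, k2), [1, 2, 4, 5, 3, 1, 2]),
   ((k0, k1, k3, k3), [4, 5, 1, 2, 3, 2, 1, 2]), ((k0, k2, k0, k0), [4, 3, 5, 1, 2, 1, 2]), ((k0, k2, k0, k1), [2, 5, 4, 2, 5, 3, 1, 2]),
   ((k0, k2, k0, k2), [5, 2, 1, 2, 4, 2, 5, 3, 1, 2]), ((k0, k2, k0, k3), [4, 2, 1, 2, 4, 5, 3, 2, 1, 2]), ((k0, k2, k1, k0), [4, 2, 5, 3, 1, 2]),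
   ((k0, k2, k1, k1), [4, 5, 1, 2, 1, 2]), ((k0, k2, k1, k2), [2, 3, 2, 1, 2, 4, 5, 2, 1, 2]), ((k0, k2, k1, k3), [1, 2, 4, 5, 2, 3, 2, 1, 2]),
   ((k0, k2, k2, k0), [4, 3, 5, 1, 2]), ((k0, k2, k2, k1), [3, 1, 2, 1, 2]), ((k0, k2, k2, k2), [4, 5, 3, 1, 2, 4, 2, 5, 1, 2]),
   ((k0, k2, k2, k3), [2, 5, 3, 1, 2, 4, 1, 2, 5]), ((k0, k2, k3, k0), [2, 5, 3, 1, 2, 1, 2]), ((k0, k2, k3, k1), [5, 2, 4, 5, 1, 2]),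
   ((k0, k2, k3, k2), [3, 1, 2, 4, 1, 2, 5]), ((k0, k2, k3, k3), [4, 1, 2, 5, 4, 2, 5, 1, 2]), ((k0, k3, k0, k0), [4, 2, 5]),
   ((k0, k3, k0, k1), [4, 2, 1, 2, 4, 5, 1, 2]), ((k0, k3, k0, k2), [5, 2, 4, 5, 2, 1, 2]), ((k0, k3, k0, k3), [2, 5, 1, 2, 4, 5, 2, 1, 2]),
   ((k0, k3, k1, k0), [0, 5]), ((k0, k3, k1, k1), [4, 5, 1, 2, 4, 5, 1, 2]), ((k0, k3, k1, k2), [5, 2, 4, 5, 2, 3, 1, 2]),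
   ((k0, k3, k1, k3), [3, 1, 2, 4, 2, 5, 3, 1, 2]), ((k0, k3, k2, k0), [4, 3, 5, 2, 1, 2]), ((k0, k3, k2, k1), [1, 2, 4, 5, 2, 1, 2]),
   ((k0, k3, k2, k2), [4, 5, 3, 2]), ((k0, k3, k2, k3), [2, 3, 2, 1, 2, 4, 5, 3, 1, 2]), ((k0, k3, k3, k0), [4, 2, 5, 3, 2, 1, 2]),
   ((k0, k3, k3, k1), [4, 5, 2, 1, 2, 4, 1, 2, 5]), ((k0, k3, k3, k2), [2]), ((k0, k3, k3, k3), [4, 3, 5, 1, 2, 4, 5, 1, 2]),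
   ((k1, k0, k0, k0), [5, 3, 2, 1, 2, 4, 5, 2, 3, 1, 2]), ((k1, k0, k0, k1), [2, 3, 1, 2]), ((k1, k0, k0, k2), [3, 5, 2, 1, 2, 4, 1, 2, 5]),
   ((k1, k0, k0, k3), [3, 2, 4, 2, 5, 1, 2]), ((k1, k0, k1, k0), [2, 1, 2, 4, 5, 2, 3, 1, 2]), ((k1, k0, k1, k1), [4, 3, 5, 2, 4, 5, 1, 2]),
   ((k1, k0, k1, k2), [2, 3, 1, 2, 4, 1, 2, 5]), ((k1, k0, k1, k3), [4, 5, 3, 2, 1, 2]), ((k1, k0, k2, k0), [5, 3, 2, 4, 2, 5, 1, 2]),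
   ((k1, k0, k2, k1), [4, 2, 1, 2, 4, 2, 5, 1, 2]), ((k1, k0, k2, k2), [3, 5, 1, 2]), ((k1, k0, k2, k3), [5, 4, 2, 1, 2, 4, 5, 3, 1, 2]),
   ((k1, k0, k3, k0), [2, 4, 2, 5, 1, 2]), ((k1, k0, k3, k1), [3, 1, 2, 4, 5, 3, 1, 2]), ((k1, k0, k3, k2), [2, 5, 4, 3, 5, 2, 4, 5, 1, 2]),
   ((k1, k0, k3, k3), [1, 2, 4, 2, 5, 3, 2, 1, 2]), ((k1, k1, k0, k0), [4, 5, 1, 2, 4, 5, 2, 1, 2]), ((k1, k1, k0, k1), [2, 1, 2, 4, 2, 5, 1, 2]),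
   ((k1, k1, k0, k2), [2, 5]), ((k1, k1, k0, k3), [5, 4, 2, 5, 1, 2]), ((k1, k1, k1, k0), [2, 4, 1, 2, 5, 4, 1, 2, 5]),
   ((k1, k1, k1, k1), [1, 2, 5, 4, 2, 5, 1, 2]), ((k1, k1, k1, k2), []), ((k1, k1, k1, k3), [2, 4, 5, 3, 2, 1, 2]),
   ((k1, k1, k2, k0), [4, 5, 2]), ((k1, k1, k2, k1), [5, 4, 2, 5, 3, 1, 2]), ((k1, k1, k2, k2), [3, 2, 1, 2, 4, 3, 5, 1, 2]),
   ((k1, k1, k2, k3), [3, 5, 1, 2, 4, 5, 2, 3, 1, 2]), ((k1, k1, k3, k0), [2, 4, 3, 5, 2]), ((k1, k1, k3, k1), [2, 4, 5, 2, 3, 2, 1, 2]),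
   ((k1, k1, k3, k2), [4, 2, 1, 2, 4, 5, 2, 1, 2]), ((k1, k1, k3, k3), [2, 3, 1, 2, 4, 5, 2, 3, 1, 2]), ((k1, k2, k0, k0), [1, 2, 4, 5, 1, 2]),
   ((k1, k2, k0, k1), [4, 2, 5, 4, 2, 5, 1, 2]), ((k1, k2, k0, k2), [5]), ((k1, k2, k0, k3), [5, 3, 1, 2, 4, 1, 2, 5]),
   ((k1, k2, k1, k0), [3, 1, 2, 4, 3, 5, 1, 2]), ((k1, k2, k1, k1), [5, 2, 3, 2, 1, 2]), ((k1, k2, k1, k2), [3, 5, 2]),
   ((k1, k2, k1, k3), [2, 1, 2, 4, 1, 2, 5]), ((k1, k2, k2, k0), [3, 2]), ((k1, k2, k2, k1), [1, 2, 5, 4, 1, 2, 5]),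
   ((k1, k2, k2, k2), [5, 2, 3, 1, 2, 4, 5, 1, 2]), ((k1, k2, k2, k3), [5, 3, 2, 1, 2]), ((k1, k2, k3, k0), [5, 2]),
   ((k1, k2, k3, k1), [2, 3, 1, 2, 4, 5, 3, 1, 2]), ((k1, k2, k3, k2), [2, 5, 1, 2, 4, 5, 1, 2]), ((k1, k2, k3, k3), [5, 4, 2, 5, 4, 1, 2, 5]),
   ((k1, k3, k0, k0), [2, 3, 1, 2, 4, 2, 5, 1, 2]), ((k1, k3, k0, k1), [3, 1, 2, 4, 5, 3, 2, 1, 2]), ((k1, k3, k0, k2), [1, 2, 3, 1, 2, 4, 1, 2, 5]),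
   ((k1, k3, k0, k3), [3, 2, 1, 2, 4, 5, 3, 1, 2]), ((k1, k3, k1, k0), [1, 2, 3, 1, 2, 4, 5, 3, 2, 1, 2]), ((k1, k3, k1, k1), [3, 2, 1, 2, 4, 5, 3, 2, 1, 2]),
   ((k1, k3, k1, k2), [2, 1, 2, 4, 5, 3, 1, 2]), ((k1, k3, k1, k3), [1, 2, 4, 1, 2, 5]), ((k1, k3, k2, k0), [5, 3, 2, 4, 2, 5, 3, 1, 2]),
   ((k1, k3, k2, k1), [3, 2, 4, 2, 5, 3, 1, 2]), ((k1, k3, k2, k2), [2, 4, 3, 5, 2, 4, 5, 2, 1, 2]), ((k1, k3, k2, k3), [4, 5, 3, 2, 4, 1, 2, 5]),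
   ((k1, k3, k3, k0), [2, 4, 2, 5, 3, 1, 2]), ((k1, k3, k3, k1), [4, 5, 2, 3, 2, 1, 2]), ((k1, k3, k3, k2), [1, 2, 5]),
   ((k1, k3, k3, k3), [2, 1, 2]), ((k2, k0, k0, k0), [3, 1, 2, 1, 2, 4, 5, 2, 1, 2]), ((k2, k0, k0, k1), [3, 2, 4, 3, 5, 1, 2]),
   ((k2, k0, k0, k2), [3, 2, 1, 2]), ((k2, k0, k0, k3), [3, 5, 2, 1, 2, 4, 2, 5, 3, 1, 2]), ((k2, k0, k1, k0), [2, 4, 3, 5, 1, 2]),
   ((k2, k0, k1, k1), [1, 2, 4, 2, 5, 1, 2]), ((k2, k0, k1, k2), [3, 1, 2, 4, 5, 2, 3, 2, 1, 2]), ((k2, k0, k1, k3), [2, 4, 5, 3, 2, 4, 2, 5, 1, 2]),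
   ((k2, k0, k2, k0), [2, 1, 2, 4, 5, 3, 2, 1, 2]), ((k2, k0, k2, k1), [4, 5, 1, 2]), ((k2, k0, k2, k2), [5, 4, 3, 5, 2, 4, 5, 1, 2]),
   ((k2, k0, k2, k3), [2, 3, 1, 2, 4, 2, 5, 3, 1, 2]), ((k2, k0, k3, k0), [3, 5, 2, 4, 5, 1, 2]), ((k2, k0, k3, k1), [4, 2, 3, 1, 2, 4, 5, 2, 1, 2]),
   ((k2, k0, k3, k2), [4, 2, 1, 2, 4, 3, 5, 1, 2]), ((k2, k0, k3, k3), [2, 5, 3, 2, 1, 2]), ((k2, k1, k0, k0), [2, 3, 1, 2, 4, 3, 5, 1, 2]),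
   ((k2, k1, k0, k1), [3, 2, 1, 2, 4, 5, 2, 3, 2, 1, 2]), ((k2, k1, k0, k2), [3, 1, 2, 4, 5, 1, 2]), ((k2, k1, k0, k3), [5, 4, 2, 1, 2, 4, 3, 5, 1, 2]),
   ((k2, k1, k1, k0), [2, 4, 3, 5, 2, 1, 2]), ((k2, k1, k1, k1), [3, 1, 2]), ((k2, k1, k1, k2), [4, 5, 2, 1, 2]),
   ((k2, k1, k1, k3), [2, 5, 3, 1, 2]), ((k2, k1, k2, k0), [1, 2, 3, 1, 2, 4, 5, 1, 2]), ((k2, k1, k2, k1), [1, 2, 4, 2, 5, 3, 1, 2]),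
   ((k2, k1, k2, k2), [3, 2, 1, 2, 4, 5, 1, 2]), ((k2, k1, k2, k3), [2, 1, 2, 4, 5, 2, 3, 2, 1, 2]), ((k2, k1, k3, k0), [3, 5, 2, 4, 5, 2, 1, 2]),
   ((k2, k1, k3, k1), [3, 5, 4, 2, 5, 4, 1, 2, 5]), ((k2, k1, k3, k2), [3, 2, 4, 3, 5, 2, 1, 2]), ((k2, k1, k3, k3), [2, 4, 5, 3, 2, 4, 1, 2, 5]),
   ((k2, k2, k0, k0), [4, 1, 2, 5, 4, 1, 2, 5]), ((k2, k2, k0, k1), [5, 4, 3, 5, 1, 2]), ((k2, k2, k0, k2), [2, 1, 2, 4, 3, 5, 1, 2]),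
   ((k2, k2, k0, k3), [1, 2, 5, 3, 1, 2]), ((k2, k2, k1, k0), [2, 4, 1, 2, 5, 3, 2, 1, 2]), ((k2, k2, k1, k1), [2, 3, 1, 2, 4, 5, 3, 2, 1, 2]),
   ((k2, k2, k1, k2), [2, 4, 5, 2, 1, 2]), ((k2, k2, k1, k3), [4, 2, 1, 2, 4, 5, 3, 1, 2]), ((k2, k2, k2, k0), [4, 3, 5, 1, 2, 4, 5, 2, 1, 2]),
   ((k2, k2, k2, k1), [2, 4, 5, 1, 2]), ((k2, k2, k2, k2), [5, 1, 2, 4, 5, 1, 2]), ((k2, k2, k2, k3), [2, 1, 2, 3, 1, 2]),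
   ((k2, k2, k3, k0), [4, 5, 1, 2, 3, 1, 2]), ((k2, k2, k3, k1), [5, 3, 1, 2, 4, 2, 5, 1, 2]), ((k2, k2, k3, k2), [5, 4, 3, 5, 2, 1, 2]),
   ((k2, k2, k3, k3), [3, 2, 1, 2, 4, 2, 5, 3, 2, 1, 2]), ((k2, k3, k0, k0), [1, 2, 4, 5, 2, 3, 1, 2]), ((k2, k3, k0, k1), [5, 3, 1, 2, 4, 2, 5, 3, 1, 2]),
   ((k2, k3, k0, k2), [4, 5, 2, 4, 5, 1, 2]), ((k2, k3, k0, k3), [5, 2, 1, 2, 3, 1, 2]), ((k2, k3, k1, k0), [5, 1, 2, 3, 1, 2]),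
   ((k2, k3, k1, k1), [4, 5, 2, 4, 5, 2, 1, 2]), ((k2, k3, k1, k2), [2, 3, 1, 2, 4, 5, 2, 3, 2, 1, 2]), ((k2, k3, k1, k3), [2, 5, 1, 2, 4, 5, 2, 3, 1, 2]),
   ((k2, k3, k2, k0), [3, 1, 2, 4, 2, 5, 3, 2, 1, 2]), ((k2, k3, k2, k1), [2, 1, 2, 4, 2, 5, 3, 1, 2]), ((k2, k3, k2, k2), [5, 2, 1, 2]),
   ((k2, k3, k2, k3), [1, 2, 5, 3, 2, 1, 2]), ((k2, k3, k3, k0), [1, 2, 3, 2, 1, 2]), ((k2, k3, k3, k1), [5, 1, 2]),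
   ((k2, k3, k3, k2), [1, 2, 5, 4, 2, 5, 3, 1, 2]), ((k2, k3, k3, k3), [4, 2, 5, 1, 2, 4, 5, 1, 2]), ((k3, k0, k0, k0), [5, 3, 2, 1, 2, 4, 5, 1, 2]),
   ((k3, k0, k0, k1), [5, 3, 2, 1, 2, 4, 5, 2, 1, 2]), ((k3, k0, k0, k2), [3, 2, 4, 2, 5, 3, 2, 1, 2]), ((k3, k0, k0, k3), [1, 2]),
   ((k3, k0, k1, k0), [3, 5, 2, 4, 5, 2, 3, 1, 2]), ((k3, k0, k1, k1), [2, 5, 1, 2]), ((k3, k0, k1, k2), [5, 4, 2, 1, 2, 4, 5, 2, 1, 2]),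
   ((k3, k0, k1, k3), [4, 2, 1, 2, 4, 2, 5, 3, 2, 1, 2]), ((k3, k0, k2, k0), [2, 4, 2, 5, 3, 2, 1, 2]), ((k3, k0, k2, k1), [2, 4, 3, 5, 2, 4, 5, 1, 2]),
   ((k3, k0, k2, k2), [1, 2, 4, 3, 5, 1, 2]), ((k3, k0, k2, k3), [3, 1, 2, 4, 5, 2, 1, 2]), ((k3, k0, k3, k0), [2, 1, 2, 4, 5, 1, 2]),
   ((k3, k0, k3, k1), [2, 3, 1, 2, 4, 3, 5, 2, 1, 2]), ((k3, k0, k3, k2), [4, 5, 2, 3, 1, 2]), ((k3, k0, k3, k3), [4, 5, 3, 2, 4, 2, 5, 1, 2]),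
   ((k3, k1, k0, k0), [1, 2, 4, 5, 3, 2, 1, 2]), ((k3, k1, k0, k1), [5, 2, 3, 1, 2, 1, 2]), ((k3, k1, k0, k2), [3, 5, 1, 2, 4, 5, 2, 1, 2]),
   ((k3, k1, k0, k3), [4, 5, 2, 4, 5, 2, 3, 1, 2]), ((k3, k1, k1, k0), [1, 2, 1, 2]), ((k3, k1, k1, k1), [2, 5, 3, 1, 2, 4, 2, 5, 1, 2]),
   ((k3, k1, k1, k2), [5, 2, 3, 1, 2]), ((k3, k1, k1, k3), [5, 1, 2, 4, 5, 2, 1, 2]), ((k3, k1, k2, k0), [5, 3, 1, 2, 1, 2]),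
   ((k3, k1, k2, k1), [1, 2, 1, 2, 4, 5, 2, 1, 2]), ((k3, k1, k2, k2), [4, 2, 5, 4, 1, 2, 5]), ((k3, k1, k2, k3), [2, 3, 1, 2, 4, 5, 2, 1, 2]),
   ((k3, k1, k3, k0), [3, 1, 2, 4, 2, 5, 1, 2]), ((k3, k1, k3, k1), [1, 2, 5, 1, 2]), ((k3, k1, k3, k2), [2, 1, 2, 4, 3, 5, 2, 1, 2]),
   ((k3, k1, k3, k3), [5, 3, 1, 2]), ((k3, k2, k0, k0), [5, 4, 2, 5, 1, 2, 4, 5, 1, 2]), ((k3, k2, k0, k1), [1, 2, 3, 1, 2, 4, 3, 5, 2, 1, 2]),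
   ((k3, k2, k0, k2), [3, 2, 1, 2, 4, 5, 2, 1, 2]), ((k3, k2, k0, k3), [3, 1, 2, 4, 5, 2, 3, 1, 2]), ((k3, k2, k1, k0), [5, 3, 2, 4, 1, 2, 5]),
   ((k3, k2, k1, k1), [5, 2, 4, 5, 3, 2, 4, 1, 2, 5]), ((k3, k2, k1, k2), [4, 3, 5, 2, 4, 5, 2, 1, 2]), ((k3, k2, k1, k3), [3, 2, 4, 1, 2, 5]),
   ((k3, k2, k2, k0), [2, 4, 1, 2, 5]), ((k3, k2, k2, k1), [3, 5, 2, 1, 2]), ((k3, k2, k2, k2), [2, 3, 2, 1, 2]),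
   ((k3, k2, k2, k3), [4, 5, 3, 1, 2]), ((k3, k2, k3, k0), [4, 5, 3, 2, 1, 2, 4, 5, 1, 2]), ((k3, k2, k3, k1), [2, 1, 2, 4, 5, 2, 1, 2]),
   ((k3, k2, k3, k2), [1, 2, 4, 3, 5, 2, 1, 2]), ((k3, k2, k3, k3), [3, 2, 1, 2, 4, 5, 2, 3, 1, 2]), ((k3, k3, k0, k0), [5, 4, 1, 2, 5, 4, 1, 2, 5]),
   ((k3, k3, k0, k1), [3, 5, 1, 2, 1, 2]), ((k3, k3, k0, k2), [5, 4, 2, 5, 3, 2, 1, 2]), ((k3, k3, k0, k3), [2, 1, 2, 4, 2, 5, 3, 2, 1, 2]),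
   ((k3, k3, k1, k0), [4, 5, 3, 1, 2, 1, 2]), ((k3, k3, k1, k1), [3, 2, 1, 2, 4, 2, 5, 1, 2]), ((k3, k3, k1, k2), [3, 5, 1, 2, 4, 5, 1, 2]),
   ((k3, k3, k1, k3), [5, 4, 1, 2, 5]), ((k3, k3, k2, k0), [2, 4, 1, 2, 5, 1, 2]), ((k3, k3, k2, k1), [4, 2, 1, 2, 4, 5, 2, 3, 2, 1, 2]),
   ((k3, k3, k2, k2), [2, 3, 1, 2, 4, 5, 1, 2]), ((k3, k3, k2, k3), [2, 4, 5, 3, 1, 2]), ((k3, k3, k3, k0), [4, 5, 3, 1, 2, 4, 1, 2, 5]),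
   ((k3, k3, k3, k1), [2, 3, 1, 2, 1, 2]), ((k3, k3, k3, k2), [2, 4, 5, 2, 3, 1, 2]), ((k3, k3, k3, k3), [5, 1, 2, 4, 5, 2, 3, 1, 2])]

end Cfsg.Agent.Lib.Helper12.S44
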