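import Cfsg.Agent.Lib.Helper12.TC.HeP2x168.Link
import Cfsg.Agent.Lib.Helper12.TC.HeP1x480.Link
import Cfsg.Agent.Lib.Helper12.TC.He49980.Link

/-!
The presented group He is finite of order at most 4030387200 (helper12).
-/

set_option autoImplicit false

namespace Cfsg.Agent.Lib.Helper12.S44

open Cfsg.Agent.Lib.Helper12.TC

theorem he_finite_card_le : Finite Cfsg.Spor.He ∧ Nat.card Cfsg.Spor.He ≤ 4030387200 := by
  obtain ⟨f0, c0⟩ := HeP2x168.card_eq
  obtain ⟨f1, c1⟩ := HeP1x480.card_le f0 _ (le_of_eq c0)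
  obtain ⟨f2, c2⟩ := He49980.card_le f1 _ c1
  exact ⟨f2, c2⟩

end Cfsg.Agent.Lib.Helper12.S44
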