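import Cfsg.Agent.Lib.Helper12.S44.Compat
import Cfsg.Agent.Lib.Helper12.S44.HeUpper
import Cfsg.Agent.Lib.Helper12.TC.He2058.Main

/-!
A subgroup of the Held group isomorphic to the symplectic group of dimension four over the field with
four elements, of index two in the subgroup `Sp4(4):2` (helper12).
-/

set_option autoImplicit false

namespace Cfsg.Agent.Lib.Helper12.S44

open Matrix Cfsg.Spor Cfsg.Agent.Lib.Helper12.TC Cfsg.Agent.Lib.Helper12.TC.Hex4116
  Cfsg.Agent.Lib.Helper12.TC.HePres Cfsg.Agent.Lib.Helper12.U62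

/-- the homomorphism to the symplectic group -/
theorem exists_theta : ∃ Θ : ↥Ns →* Sp4 ⧸ (⊥ : Subgroup Sp4),
    ∀ (h : ↥Ns) (M : Sp4), Compat (h : PresentedGroup R) M → Θ h = QuotientGroup.mk M :=
  exists_hom_of_compat Ns ⊥ Compat compat_mul compat_inv compat_uniq exists_compat

theorem gen_mem (k : ℕ) (hk : k < 6) : wprod v (sw.getD k []) ∈ Ns := by
  have hk' : k < sw.length := hk
  rw [List.getD_eq_getElem _ _ hk', hH]
  exact Subgroup.subset_closure ⟨_, List.getElem_mem hk', rfl⟩

theorem tv_u0 : tvS u0 = actS (expandG twW) := by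
  apply mat_ext
  intro x
  rw [mat_tvS, transvection_vec4, actS_mulVec]
  have h := allT4_spec _ transv_check x
  rw [decide_eq_true_eq] at h
  rw [h]

theorem exists_word (u : T4) (hu : u ≠ 0) : ∃ W : List ℕ, actL (expandG W) u0 = u := by
  have h1 := allT4_spec _ orbit_complete u
  simp only [Bool.or_eq_true, decide_eq_true_eq] at h1
  rcases h1 with h1 | h1
  · exact absurd h1 hu
  · obtain ⟨e, he, rfl⟩ := List.mem_map.mp ((elemK_iff _ _).mp h1)
    have h2 := (allListK_iff orbL _).mp orbit_check e he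
    rw [decide_eq_true_eq] at h2
    exact ⟨e.2, h2⟩

theorem theta_surjective (Θ : ↥Ns →* Sp4 ⧸ (⊥ : Subgroup Sp4))
    (hΘ : ∀ (h : ↥Ns) (M : Sp4), Compat (h : PresentedGroup R) M → Θ h = QuotientGroup.mk M) :
    Function.Surjective Θ := by
  set Rg : Subgroup Sp4 := (Θ.range).comap (QuotientGroup.mk' (⊥ : Subgroup Sp4)) with hRg
  have hgen : ∀ k, actS (gvs.getD k []) ∈ Rg := by
    intro k
    by_cases hk : k < 6
    · show QuotientGroup.mk' _ (actS (gvs.getD k [])) ∈ Θ.range
      exact ⟨⟨_, gen_mem k hk⟩, hΘ _ _ (compat_gen k hk)⟩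
    · have : gvs.getD k [] = [] := List.getD_eq_default _ _ (by show 6 ≤ k; omega)
      rw [this, actS_nil]
      exact Subgroup.one_mem _
  have hword : ∀ W : List ℕ, actS (expandG W) ∈ Rg := by
    intro W
    induction W with
    | nil => exact Subgroup.one_mem _
    | cons k W ih =>
      have : expandG (k :: W) = gvs.getD k [] ++ expandG W := by
        unfold expandG
        rw [List.flatMap_cons]
      rw [this, actS_append]
      exact Subgroup.mul_mem _ (hgen k) ih
  have hgens : {B : Sp4 | ∃ u : T4, u ≠ 0 ∧ B = tvS u} ≤ Rg := by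
    rintro B ⟨u, hu, rfl⟩
    obtain ⟨W, hW⟩ := exists_word u hu
    have hA := hword W
    have h0 : tvS u0 ∈ Rg := by rw [tv_u0]; exact hword twW
    have hBeq : tvS u = actS (expandG W) * tvS u0 * (actS (expandG W))⁻¹ := by
      apply mat_injective
      rw [mat_mul, mat_mul, mat_tvS, mat_tvS, transv_mul _ (mat_pres _), actS_mulVec, hW, mul_assoc,
        mat_mul_inv, mul_one]
    rw [SetLike.mem_coe, hBeq]
    exact Subgroup.mul_mem _ (Subgroup.mul_mem _ hA h0) (Subgroup.inv_mem _ hA)
  have htop : Rg = ⊤ := by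
    rw [eq_top_iff, ← Sp4_closure, Subgroup.closure_le]
    exact hgens
  intro q
  obtain ⟨B, rfl⟩ := QuotientGroup.mk_surjective q
  have hB : B ∈ Rg := by rw [htop]; trivial
  exact hB

instance finite_G : Finite (PresentedGroup R) := he_finite_card_le.1

theorem card_Ns_le : Nat.card ↥Ns ≤ 979200 := by
  have h1 := Subgroup.card_mul_index Ns
  have h2 : Nat.card (PresentedGroup R) ≤ 4030387200 := he_finite_card_le.2
  have h3 : Ns.index = 4116 := rho_index
  rw [h3] at h1
  generalize Nat.card ↥Ns = n at h1 ⊢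
  generalize Nat.card (PresentedGroup R) = m at h1 h2
  omega

/-- the subgroup is isomorphic to the symplectic group -/
theorem nonempty_iso : Nonempty (↥Ns ≃* Sp4) := by
  obtain ⟨Θ, hΘ⟩ := exists_theta
  have hsurj := theta_surjective Θ hΘ
  have hcard : Nat.card (Sp4 ⧸ (⊥ : Subgroup Sp4)) = 979200 := by
    rw [Nat.card_congr (QuotientGroup.quotientBot (G := Sp4)).toEquiv, card_Sp4]
  have hbij : Function.Bijective Θ :=
    hsurj.bijective_of_nat_card_le (by rw [hcard]; exact card_Ns_le)
  exact ⟨(MulEquiv.ofBijective Θ hbij).trans QuotientGroup.quotientBot⟩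

/-- the subgroup generated by `a`, `c`, `d`, `e`, `f`, `(ab)^2`, `(bcde)^7` -/
abbrev Hs : Subgroup (PresentedGroup R) := (Subgroup.closure He2058.S).map (PresentedGroup.mk R)

theorem Ns_le_Hs : Ns ≤ Hs := by
  apply Subgroup.map_mono
  apply Subgroup.closure_mono
  intro x hx
  rcases hx with rfl | rfl | rfl | rfl | rfl | rfl
  · exact Or.inl rfl
  · exact Or.inr (Or.inl rfl)
  · exact Or.inr (Or.inr (Or.inl rfl))
  · exact Or.inr (Or.inr (Or.inr (Or.inl rfl)))
  · exact Or.inr (Or.inr (Or.inr (Or.inr (Or.inl rfl))))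
  · exact Or.inr (Or.inr (Or.inr (Or.inr (Or.inr (Or.inr rfl)))))

theorem index_subgroupOf : (Ns.subgroupOf Hs).index = 2 := by
  have h1 := Subgroup.relIndex_mul_index Ns_le_Hs
  have h2 : Hs.index = 2058 := He2058.main.1
  have h3 : Ns.index = 4116 := rho_index
  rw [h2, h3] at h1
  show Ns.relIndex Hs = 2
  generalize Ns.relIndex Hs = n at h1 ⊢
  omega

/-- the subgroup `Sp4(4):2` has a normal subgroup of index two isomorphic to the symplectic group -/
theorem main : ∃ N : Subgroup ↥Hs, N.Normal ∧ N.index = 2 ∧ Nonempty (↥N ≃* Sp4) := by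
  refine ⟨Ns.subgroupOf Hs, Subgroup.normal_of_index_eq_two index_subgroupOf, index_subgroupOf, ?_⟩
  obtain ⟨e⟩ := nonempty_iso
  exact ⟨(Subgroup.subgroupOfEquivOfLe Ns_le_Hs).trans e⟩

end Cfsg.Agent.Lib.Helper12.S44
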