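import Cfsg.Agent.Lib.Helper12.S44.Tup
import Cfsg.Agent.S0245
import Cfsg.Agent.S0765

/-!
The symplectic group of dimension four over the field with four elements: transvections, generation and
order (helper12).
-/

set_option autoImplicit false

namespace Cfsg.Agent.Lib.Helper12.S44

open Matrix Cfsg.Agent.Lib.Lead.F4

/-- the symplectic group -/
abbrev Sp4 : Type := ↥(Matrix.symplecticGroup (Fin 2) K)

/-- the matrix of an element -/
def mat (A : Sp4) : Matrix I4 I4 K := (A : Matrix I4 I4 K)

theorem mat_injective : Function.Injective mat := fun A B h => Subtype.ext h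

theorem mat_one : mat 1 = 1 := rfl

theorem mat_mul (A B : Sp4) : mat (A * B) = mat A * mat B := rfl

theorem mat_inv_mul (M : Sp4) : mat M⁻¹ * mat M = 1 := by
  rw [← mat_mul, inv_mul_cancel, mat_one]

theorem mat_mul_inv (M : Sp4) : mat M * mat M⁻¹ = 1 := by
  rw [← mat_mul, mul_inv_cancel, mat_one]

theorem mat_pres (A : Sp4) (u v : I4 → K) :
    Cfsg.sympForm 2 K (mat A *ᵥ u) (mat A *ᵥ v) = Cfsg.sympForm 2 K u v :=
  (Cfsg.Agent.Lib.helper6.mem_symplecticGroup_iff_sympForm 2 (mat A)).mp A.2 u v

/-- conjugating a transvection by a matrix preserving the form -/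
theorem transv_mul (M : Matrix I4 I4 K)
    (hM : ∀ u v : I4 → K, Cfsg.sympForm 2 K (M *ᵥ u) (M *ᵥ v) = Cfsg.sympForm 2 K u v)
    (v : I4 → K) (c : K) :
    M * Cfsg.sympTransvection 2 v c = Cfsg.sympTransvection 2 (M *ᵥ v) c * M := by
  rw [Matrix.ext_iff_mulVec]
  intro x
  rw [← Matrix.mulVec_mulVec, ← Matrix.mulVec_mulVec, Cfsg.Agent.Lib.helper6.sympTransvection_mulVec,
    Cfsg.Agent.Lib.helper6.sympTransvection_mulVec, hM, Matrix.mulVec_add, Matrix.mulVec_smul]

/-- the transvection of a tuple as an element of the group -/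
def tvS (u : T4) : Sp4 :=
  ⟨Cfsg.sympTransvection 2 (vec4 u) 1, Cfsg.Agent.Lib.helper6.sympTransvection_mem 2 _ _⟩

theorem mat_tvS (u : T4) : mat (tvS u) = Cfsg.sympTransvection 2 (vec4 u) 1 := rfl

/-- the product of the transvections of a list of tuples -/
def actS (vs : List T4) : Sp4 := (vs.map tvS).prod

theorem actS_nil : actS [] = 1 := rfl

theorem actS_cons (u : T4) (vs : List T4) : actS (u :: vs) = tvS u * actS vs := by
  unfold actS
  rw [List.map_cons, List.prod_cons]

theorem actS_append (vs ws : List T4) : actS (vs ++ ws) = actS vs * actS ws := by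
  unfold actS
  rw [List.map_append, List.prod_append]

theorem actS_mulVec (vs : List T4) (x : T4) : mat (actS vs) *ᵥ vec4 x = vec4 (actL vs x) := by
  induction vs with
  | nil => rw [actS_nil, mat_one, Matrix.one_mulVec]; rfl
  | cons u vs ih =>
    rw [actS_cons, mat_mul, ← Matrix.mulVec_mulVec, ih, mat_tvS, transvection_vec4]
    rfl

/-- a matrix is determined by its action on the vectors of tuples -/
theorem mat_ext (A B : Sp4) (h : ∀ x : T4, mat A *ᵥ vec4 x = mat B *ᵥ vec4 x) : A = B := by
  apply mat_injective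
  rw [Matrix.ext_iff_mulVec]
  intro u
  rw [← vec4_tup4 u]
  exact h _

theorem card_K : Fintype.card K = 4 := by decide

theorem card_Sp4 : Nat.card Sp4 = 979200 := by
  have h := Cfsg.Agent.S0245.result (F := K) (q := 4) card_K 2
  norm_num [Finset.prod_range_succ] at h
  exact h

/-- the elements of the generating set -/
theorem gen_cases (B : Sp4) (w : I4 → K) (c : K)
    (hB : mat B = Cfsg.sympTransvection 2 w c) : B = 1 ∨ ∃ u : T4, u ≠ 0 ∧ B = tvS u := by
  by_cases hu : (c * c) • tup4 w = 0
  · left
    apply mat_injective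
    rw [hB, transvection_scalar, mat_one, ← vec4_tup4 w, ← vec4_smul, hu, vec4_zero]
    unfold Cfsg.sympTransvection
    ext i j
    simp [Matrix.vecMulVec_apply]
  · right
    refine ⟨(c * c) • tup4 w, hu, ?_⟩
    apply mat_injective
    rw [hB, transvection_scalar, mat_tvS, vec4_smul, vec4_tup4]

/-- the group is generated by the transvections of the tuples other than zero -/
theorem Sp4_closure : Subgroup.closure {B : Sp4 | ∃ u : T4, u ≠ 0 ∧ B = tvS u} = ⊤ := by
  have h := Cfsg.Agent.S0765.result (F := K) 2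
  rw [eq_top_iff, ← h, Subgroup.closure_le]
  rintro B ⟨w, c, hB⟩
  rcases gen_cases B w c hB with h1 | h1
  · rw [h1]; exact Subgroup.one_mem _
  · exact Subgroup.subset_closure h1

end Cfsg.Agent.Lib.Helper12.S44
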