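import Mathlib
import Cfsg.Prelude.Def_ClassicalGeometry
import Cfsg.Agent.Lib.Lead.F4c
import Cfsg.Agent.Lib.helper6.Symp

/-!
The symplectic space of dimension four over the field with four elements in coordinates: vectors as
tuples, the symplectic form, symplectic transvections acting on tuples, normal forms of vectors (helper12).
-/

set_option autoImplicit false

namespace Cfsg.Agent.Lib.Helper12.S44

open Matrix Cfsg.Agent.Lib.Lead.F4

/-- the field with four elements -/
abbrev K : Type := F4c

/-- the coordinates of a vector -/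
abbrev T4 : Type := K × K × K × K

/-- the index set of the coordinates -/
abbrev I4 : Type := Fin 2 ⊕ Fin 2

instance decEqK2 : DecidableEq (K × K) := inferInstance
instance decEqK3 : DecidableEq (K × K × K) := inferInstance
instance decEqT4 : DecidableEq T4 := inferInstance

/-- the vector of a tuple -/
def vec4 (a : T4) : I4 → K := Sum.elim ![a.1, a.2.1] ![a.2.2.1, a.2.2.2]

/-- the tuple of a vector -/
def tup4 (u : I4 → K) : T4 := (u (Sum.inl 0), u (Sum.inl 1), u (Sum.inr 0), u (Sum.inr 1))

theorem vec4_tup4 (u : I4 → K) : vec4 (tup4 u) = u := by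
  funext i
  rcases i with i | i <;> fin_cases i <;> rfl

theorem tup4_vec4 (a : T4) : tup4 (vec4 a) = a := rfl

theorem vec4_add (a b : T4) : vec4 (a + b) = vec4 a + vec4 b := by
  funext i
  rcases i with i | i <;> fin_cases i <;> rfl

theorem vec4_smul (s : K) (a : T4) : vec4 (s • a) = s • vec4 a := by
  funext i
  rcases i with i | i <;> fin_cases i <;> rfl

theorem vec4_zero : vec4 0 = 0 := by
  funext i
  rcases i with i | i <;> fin_cases i <;> rfl

theorem vec4_injective : Function.Injective vec4 := fun a b h => by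
  rw [← tup4_vec4 a, ← tup4_vec4 b, h]

theorem vec4_ne_zero (a : T4) (ha : a ≠ 0) : vec4 a ≠ 0 := by
  intro h
  apply ha
  apply vec4_injective
  rw [h, vec4_zero]

theorem neg_K (x : K) : -x = x := by revert x; decide

/-- the symplectic form on tuples -/
def bT (a b : T4) : K :=
  a.2.2.1 * b.1 + a.2.2.2 * b.2.1 + (a.1 * b.2.2.1 + a.2.1 * b.2.2.2)

theorem form_vec4 (a b : T4) : Cfsg.sympForm 2 K (vec4 a) (vec4 b) = bT a b := by
  simp [Cfsg.sympForm, Matrix.J, dotProduct, Matrix.mulVec, Fintype.sum_sum_type, Fin.sum_univ_two,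
    vec4, bT, Matrix.fromBlocks, neg_K]
  ring

/-- the symplectic transvection of the vector of `v` on tuples -/
def trT (v x : T4) : T4 := x + bT x v • v

/-- the action of a list of transvections -/
def actL (vs : List T4) (x : T4) : T4 := vs.foldr trT x

theorem actL_append (vs ws : List T4) (x : T4) : actL (vs ++ ws) x = actL vs (actL ws x) := by
  unfold actL
  rw [List.foldr_append]

theorem transvection_vec4 (v x : T4) :
    Cfsg.sympTransvection 2 (vec4 v) 1 *ᵥ vec4 x = vec4 (trT v x) := by
  rw [Cfsg.Agent.Lib.helper6.sympTransvection_mulVec, one_mul, form_vec4]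
  unfold trT
  rw [vec4_add, vec4_smul]

/-- the first coordinate other than zero -/
def lead4 (a : T4) : K :=
  if a.1 ≠ 0 then a.1 else if a.2.1 ≠ 0 then a.2.1 else if a.2.2.1 ≠ 0 then a.2.2.1 else a.2.2.2

/-- the normal form of a vector: the first coordinate other than zero becomes one -/
def norm4 (a : T4) : T4 := (lead4 a)⁻¹ • a

theorem lead4_ne_zero (a : T4) (ha : a ≠ 0) : lead4 a ≠ 0 := by
  obtain ⟨a0, a1, a2, a3⟩ := a
  unfold lead4
  simp only
  split_ifs with h0 h1 h2
  · exact h0
  · exact h1
  · exact h2
  · intro h3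
    apply ha
    simp only [not_not] at h0 h1 h2
    rw [h0, h1, h2, h3]
    rfl

theorem eq_lead_smul_norm (a : T4) (ha : a ≠ 0) : a = lead4 a • norm4 a := by
  unfold norm4
  rw [smul_smul, mul_inv_cancel₀ (lead4_ne_zero a ha), one_smul]

theorem sq_sq (c : K) : (c * c) * (c * c) = c := by revert c; decide

/-- every transvection is the transvection with the scalar one of a multiple of the vector -/
theorem transvection_scalar (w : I4 → K) (c : K) :
    Cfsg.sympTransvection 2 w c = Cfsg.sympTransvection 2 ((c * c) • w) 1 := by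
  unfold Cfsg.sympTransvection
  rw [one_smul, Matrix.mulVec_smul]
  congr 1
  ext i j
  simp only [Matrix.smul_apply, Matrix.vecMulVec_apply, Pi.smul_apply, smul_eq_mul]
  have := sq_sq c
  calc c * (w i * (Matrix.J (Fin 2) K *ᵥ w) j)
      = ((c * c) * (c * c)) * (w i * (Matrix.J (Fin 2) K *ᵥ w) j) := by rw [this]
    _ = c * c * w i * (c * c * (Matrix.J (Fin 2) K *ᵥ w) j) := by ring

end Cfsg.Agent.Lib.Helper12.S44
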